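import Groth.Agent.Lib.Lead.CohLES.Basic
import Groth.Agent.Lib.Lead.QC.FreeHom

/-! # Multiplication by a global function as an endomorphism of an `O_X`-module. -/

universe u
open CategoryTheory Limits Opposite TopologicalSpace AlgebraicGeometry

namespace Groth.Agent.LD.Ann
open Groth.Agent.LD.QC

variable {X : Scheme.{u}}

/-- multiplication by a global function, as an endomorphism of a module. -/
noncomputable def smulEnd (M : X.Modules) (r : Γ(X, ⊤)) : M ⟶ M :=
  ⟨PresheafOfModules.homMk (Coh.smulAb M (show Coh.Γtop X from r)).hom (fun U a m => by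
    change Coh.resTop X U (show Coh.Γtop X from r) • (a • m) =
      a • (Coh.resTop X U (show Coh.Γtop X from r) • m)
    rw [smul_smul, smul_smul]
    congr 1
    exact mul_comm (G := X.presheaf.obj U) (Coh.resTop X U (show Coh.Γtop X from r)) a)⟩

lemma toSheaf_map_smulEnd (M : X.Modules) (r : Γ(X, ⊤)) :
    (SheafOfModules.toSheaf X.ringCatSheaf).map (smulEnd M r) =
      Coh.smulAb M (show Coh.Γtop X from r) := rfl

lemma smulEnd_app (M : X.Modules) (r : Γ(X, ⊤)) (U : X.Opens) (m : Γ(M, U)) :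
    (smulEnd M r).app U m = (X.presheaf.map (homOfLE (le_top : U ≤ ⊤)).op r) • m := rfl

instance : (SC.toAbF X).Faithful :=
  inferInstanceAs (SheafOfModules.toSheaf X.ringCatSheaf).Faithful

@[reassoc]
lemma smulEnd_naturality {M N : X.Modules} (φ : M ⟶ N) (r : Γ(X, ⊤)) :
    smulEnd M r ≫ φ = φ ≫ smulEnd N r := by
  apply (SC.toAbF X).map_injective
  rw [(SC.toAbF X).map_comp, (SC.toAbF X).map_comp]
  exact CL.smulAb_naturality φ (show Coh.Γtop X from r)

lemma smulEnd_mul (M : X.Modules) (r s : Γ(X, ⊤)) :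
    smulEnd M (r * s) = smulEnd M s ≫ smulEnd M r := by
  apply (SC.toAbF X).map_injective
  rw [(SC.toAbF X).map_comp]
  exact Coh.smulAb_mul M (show Coh.Γtop X from r) (show Coh.Γtop X from s)

lemma smulEnd_pow_add (M : X.Modules) (r : Γ(X, ⊤)) (a b : ℕ) :
    smulEnd M (r ^ (a + b)) = smulEnd M (r ^ a) ≫ smulEnd M (r ^ b) := by
  rw [add_comm, pow_add, smulEnd_mul]

/-- the map induced on cohomology by `smulEnd` is the scalar multiplication. -/
lemma HHmapΓ_smulEnd (M : X.Modules) (r : Γ(X, ⊤)) (i : ℕ) (x : Coh.HH X M i) :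
    CL.HHmapΓ (smulEnd M r) i x = (show Coh.Γtop X from r) • x := rfl

end Groth.Agent.LD.Ann
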