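import Groth.Agent.Lib.Lead.Ann.Split
import Groth.Agent.Lib.Lead.QC.AmpleIso

/-! # Annihilators of cohomology: transfer along retractions up to a scalar. -/

universe u
open CategoryTheory Limits Opposite TopologicalSpace AlgebraicGeometry

namespace Groth.Agent.LD.Ann
open Groth.Agent.LD.QC

variable {A : Type u} [CommRing A] {X : Scheme.{u}} [X.Over (Spec (CommRingCat.of A))]

/-- the global function attached to `a : A`. -/
noncomputable abbrev gl (X : Scheme.{u}) [X.Over (Spec (CommRingCat.of A))] (a : A) : Γ(X, ⊤) :=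
  Coh.toGlobal (X ↘ Spec (CommRingCat.of A)) a

lemma HHmap_smulEnd (M : X.Modules) (a : A) (i : ℕ) (x : Coh.HH X M i) :
    CL.HHmap A (smulEnd M (gl X a)) i x = a • x := rfl

theorem ann_of_split {F G : X.Modules} (α : F ⟶ G) (β : G ⟶ F) (c : A)
    (h : α ≫ β = smulEnd F (gl X c)) (p : ℕ) (a : A)
    (ha : ∀ y : Coh.HH X G p, a • y = 0) (x : Coh.HH X F p) : (a * c) • x = 0 := by
  have h1 : c • x = CL.HHmap A β p (CL.HHmap A α p x) := by
    rw [← LinearMap.comp_apply, ← CL.HHmap_comp, h]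
    rfl
  rw [mul_smul, h1, ← map_smul, ha, map_zero]

theorem ann_freeMod (p : ℕ) (a : A)
    (ha : ∀ y : Coh.HH X (Coh.structureModule X) p, a • y = 0) (r : ℕ)
    (x : Coh.HH X (FlatMod.freeMod X r) p) : a • x = 0 := by
  have h1 : x = ∑ j, CL.HHmap A (Sigma.ι (fun _ : Fin r => unitMod X) j) p
      (CL.HHmap A (freeProj X r j) p x) := by
    have h2 : CL.HHmap A (𝟙 (FlatMod.freeMod X r)) p x = x := by
      rw [CL.HHmap_id]; rfl
    rw [← freeProj_total, CL.HHmap_sum, LinearMap.sum_apply] at h2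
    refine h2.symm.trans ?_
    refine Finset.sum_congr rfl fun j _ => ?_
    rw [CL.HHmap_comp, LinearMap.comp_apply]
  rw [h1, Finset.smul_sum]
  refine Finset.sum_eq_zero fun j _ => ?_
  rw [← map_smul, ha, map_zero]

/-- if `F` is globally finitely presented and free of rank `r` over `D(c)`, then `c ^ K` times any
annihilator of `H^i(X, O_X)` kills `H^i(X, F)`. -/
theorem exists_pow_ann [CompactSpace X] [QuasiSeparatedSpace X] {F : X.Modules}
    [F.IsQuasicoherent] {a b r : ℕ}
    (q : FlatMod.freeMod X a ⟶ FlatMod.freeMod X b) (p : FlatMod.freeMod X b ⟶ F) (w : q ≫ p = 0)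
    [Epi p] (hS : (ShortComplex.mk q p w).Exact) (c : A)
    (e : F.restrict (X.basicOpen (gl X c)).ι ≅
      (FlatMod.freeMod X r).restrict (X.basicOpen (gl X c)).ι) (i : ℕ) :
    ∃ K : ℕ, ∀ s : A, (∀ y : Coh.HH X (Coh.structureModule X) i, s • y = 0) →
      ∀ x : Coh.HH X F i, (s * c ^ K) • x = 0 := by
  obtain ⟨K, α, β, h⟩ := exists_split (gl X c) q p w hS e
  refine ⟨K, fun s hs x => ?_⟩
  have h' : gl X c ^ K = gl X (c ^ K) :=
    (map_pow (Coh.toGlobal (X ↘ Spec (CommRingCat.of A))) c K).symm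
  rw [h'] at h
  exact ann_of_split α β (c ^ K) h i s (ann_freeMod i s hs r) x

end Groth.Agent.LD.Ann
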