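import Groth.Agent.Lib.Lead.Ann.HomLoc
import Groth.Agent.Lib.Lead.QC.AmpleGen
import Groth.Agent.Lib.Lead.QC.EpiLocal
import Groth.Agent.Lib.Helper5.Lim.ModuleIso
import Groth.Agent.Lib.Lead.QC.LocFree2

/-! # Global finite presentations on schemes covered by affine basic opens of global functions. -/

universe u
open CategoryTheory Limits Opposite TopologicalSpace AlgebraicGeometry

namespace Groth.Agent.LD.Ann
open Groth.Agent.LD.QC

variable {X : Scheme.{u}} [CompactSpace X] [QuasiSeparatedSpace X]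

/-- on a quasi-compact quasi-separated scheme covered by finitely many affine basic opens of
global functions, a quasi-coherent module of finite type is a quotient of a finite free module. -/
theorem exists_epi_freeMod {ι : Type*} [Fintype ι] (f : ι → Γ(X, ⊤))
    (haff : ∀ i, IsAffineOpen (X.basicOpen (f i))) (hcov : ∀ x : X, ∃ i, x ∈ X.basicOpen (f i))
    (F : X.Modules) [F.IsQuasicoherent] (hFT : F.IsFiniteType) :
    ∃ (K : ℕ) (p : FlatMod.freeMod X K ⟶ F), Epi p := by
  classical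
  have hfin : ∀ i, Module.Finite Γ(X, X.basicOpen (f i)) Γ(F, X.basicOpen (f i)) :=
    fun i => finite_sections_of_isFiniteType F hFT (haff i)
  choose k t ht using fun i => (hfin i).exists_fin
  choose n σ hσ using fun (i : ι) (j : Fin (k i)) =>
    compact_qs_surj F (U := ⊤) isCompact_univ isQuasiSeparated_univ (f i) (t i j)
  let J := Σ i : ι, Fin (k i)
  let e : J ≃ Fin (Fintype.card J) := Fintype.equivFin J
  let τ : Fin (Fintype.card J) → Γ(F, ⊤) := fun a => σ (e.symm a).1 (e.symm a).2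
  refine ⟨Fintype.card J, homOfSections F τ, ?_⟩
  apply epi_of_local_lift
  intro V g x hx
  obtain ⟨i, hxi⟩ := hcov x
  obtain ⟨W, hW, hxW, a, ha⟩ := exists_local_comb F (haff i) (t i) (ht i) (V ⊓ X.basicOpen (f i))
    inf_le_right (F.presheaf.map (homOfLE (inf_le_left : V ⊓ X.basicOpen (f i) ≤ V)).op g) x
    ⟨hx, hxi⟩
  have hWV : W ≤ V := hW.trans inf_le_left
  have hWU : W ≤ X.basicOpen (f i) := hW.trans inf_le_right
  -- `f i` is a unit on `W`
  have hu0 : IsUnit (X.presheaf.map (homOfLE (X.basicOpen_le (f i))).op (f i)) :=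
    RingedSpace.isUnit_res_basicOpen _ (f i)
  have hu1 : IsUnit (X.presheaf.map (homOfLE (le_top : W ≤ ⊤)).op (f i)) := by
    have := hu0.map (X.presheaf.map (homOfLE hWU).op).hom
    rwa [← X.presheaf.map_comp_apply] at this
  obtain ⟨u, hu⟩ := hu1
  refine ⟨W, hWV, hxW, ∑ j : Fin (k i),
    (Sigma.ι (fun _ : Fin (Fintype.card J) => unitMod X) (e ⟨i, j⟩)).app W
      (a j * ((u⁻¹ ^ n i j : (Γ(X, W))ˣ) : Γ(X, W))), ?_⟩
  rw [map_sum]
  rw [res_res] at ha
  rw [ha]
  refine Finset.sum_congr rfl fun j _ => ?_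
  rw [homOfSections_app_ι]
  have h3 : τ (e ⟨i, j⟩) = σ i j := by
    change σ (e.symm (e ⟨i, j⟩)).1 (e.symm (e ⟨i, j⟩)).2 = σ i j
    rw [e.symm_apply_apply]
  rw [h3]
  have h4 : F.presheaf.map (homOfLE (le_top : W ≤ ⊤)).op (σ i j) =
      ((u ^ n i j : (Γ(X, W))ˣ) : Γ(X, W)) • F.presheaf.map (homOfLE hWU).op (t i j) := by
    have h5 := congrArg (F.presheaf.map (homOfLE hWU).op) (hσ i j)
    rw [res_res, smul_res, map_pow, ← X.presheaf.map_comp_apply] at h5
    rw [h5, Units.val_pow_eq_pow_val, hu]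
    rfl
  rw [h4, smul_smul, mul_assoc, ← Units.val_mul, ← mul_pow, inv_mul_cancel, one_pow, Units.val_one,
    mul_one]

/-- a global finite presentation of a finitely presented module. -/
theorem exists_global_presentation {ι : Type*} [Fintype ι] (f : ι → Γ(X, ⊤))
    (haff : ∀ i, IsAffineOpen (X.basicOpen (f i))) (hcov : ∀ x : X, ∃ i, x ∈ X.basicOpen (f i))
    (F : X.Modules) (hF : F.IsFinitePresentation) :
    ∃ (a b : ℕ) (q : FlatMod.freeMod X a ⟶ FlatMod.freeMod X b) (p : FlatMod.freeMod X b ⟶ F)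
      (w : q ≫ p = 0), Epi p ∧ (ShortComplex.mk q p w).Exact := by
  haveI := hF
  haveI hqc : F.IsQuasicoherent := inferInstance
  have hFT : F.IsFiniteType := inferInstance
  obtain ⟨b, p, hp⟩ := exists_epi_freeMod f haff hcov F hFT
  haveI hqcb : (FlatMod.freeMod X b).IsQuasicoherent :=
    qc_of_isFinLocFree _ (isFinLocFree_freeMod X b)
  have hfpb : (FlatMod.freeMod X b).IsFinitePresentation :=
    isFinitePresentation_of_isFinLocFree _ (isFinLocFree_freeMod X b)
  have hftb : (FlatMod.freeMod X b).IsFiniteType := by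
    haveI := hfpb
    infer_instance
  haveI : (kernel p).IsQuasicoherent := qc_kernel p hqcb hqc
  have hker : (kernel p).IsFiniteType := Groth.Agent.H5.Lim.isFiniteType_kernel_of_epi p hftb hF
  obtain ⟨a, q, hq⟩ := exists_epi_freeMod f haff hcov (kernel p) hker
  have w : (q ≫ kernel.ι p) ≫ p = 0 := by rw [Category.assoc, kernel.condition, comp_zero]
  refine ⟨a, b, q ≫ kernel.ι p, p, w, hp, ?_⟩
  have hS' : (ShortComplex.mk (kernel.ι p) p (kernel.condition p)).Exact :=
    ShortComplex.exact_of_f_is_kernel _ (kernelIsKernel p)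
  let φ : ShortComplex.mk (q ≫ kernel.ι p) p w ⟶ ShortComplex.mk (kernel.ι p) p (kernel.condition p) :=
    { τ₁ := q, τ₂ := 𝟙 _, τ₃ := 𝟙 _ }
  haveI : Epi φ.τ₁ := hq
  haveI : IsIso φ.τ₂ := inferInstanceAs (IsIso (𝟙 _))
  haveI : Mono φ.τ₃ := inferInstanceAs (Mono (𝟙 _))
  exact (ShortComplex.exact_iff_of_epi_of_isIso_of_mono φ).2 hS'

end Groth.Agent.LD.Ann
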