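import Groth.Agent.Lib.Lead.Ann.SmulEnd
import Groth.Agent.Lib.Lead.QC.Extend
import Groth.Agent.Lib.Lead.QC.Compact

/-! # Localization of homomorphisms: extending maps from a basic open up to a power. -/

universe u
open CategoryTheory Limits Opposite TopologicalSpace AlgebraicGeometry

namespace Groth.Agent.LD.Ann
open Groth.Agent.LD.QC

variable {X : Scheme.{u}} (f : Γ(X, ⊤))

/-- `j_* j^* G` for the basic open `D(f)`. -/
noncomputable abbrev TT (G : X.Modules) : X.Modules :=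
  (Scheme.Modules.pushforward (X.basicOpen f).ι).obj (G.restrict (X.basicOpen f).ι)

/-- the unit `G ⟶ j_* j^* G`. -/
noncomputable abbrev ηη (G : X.Modules) : G ⟶ TT f G :=
  (Scheme.Modules.restrictAdjunction (X.basicOpen f).ι).unit.app G

lemma comp_app_apply' {M N P : X.Modules} (a : M ⟶ N) (b : N ⟶ P) (T : X.Opens)
    (x : Γ(M, T)) : (a ≫ b).app T x = b.app T (a.app T x) := by
  rw [Scheme.Modules.Hom.comp_app]
  rfl

lemma image_preimage_top :
    (X.basicOpen f).ι ''ᵁ ((X.basicOpen f).ι ⁻¹ᵁ ⊤) = X.basicOpen f := by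
  change (X.basicOpen f).ι ''ᵁ ⊤ = _
  rw [Scheme.Hom.image_top_eq_opensRange, Scheme.Opens.opensRange_ι]

lemma TT_smul (G : X.Modules) (r : Γ(X, ⊤)) (z : Γ(TT f G, ⊤)) :
    r • z = (show Γ(TT f G, ⊤) from
      (X.presheaf.map (homOfLE (le_top :
        (X.basicOpen f).ι ''ᵁ ((X.basicOpen f).ι ⁻¹ᵁ ⊤) ≤ ⊤)).op r) •
        (show Γ(G, (X.basicOpen f).ι ''ᵁ ((X.basicOpen f).ι ⁻¹ᵁ ⊤)) from z)) := by
  have h := (X.basicOpen f).ι.app_appIso_inv ⊤
  have h2 := congr($h r)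
  change ((X.basicOpen f).ι.appIso _).inv ((X.basicOpen f).ι.app ⊤ r) •
    (show Γ(G, (X.basicOpen f).ι ''ᵁ ((X.basicOpen f).ι ⁻¹ᵁ ⊤)) from z) = _
  congr 1

lemma sectionsOfHom_zero {M : X.Modules} {n : ℕ} :
    sectionsOfHom (0 : FlatMod.freeMod X n ⟶ M) = fun _ => 0 := by
  funext i
  rw [sectionsOfHom, comp_zero]
  change (0 : unitMod X ⟶ M).app ⊤ (1 : Γ(X, ⊤)) = 0
  rfl

variable [CompactSpace X]

/-- **injectivity up to a power**: a morphism from a globally finitely generated module which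
vanishes on `D(f)` is killed by a power of `f`. -/
theorem exists_pow_smulEnd_comp_eq_zero {F G : X.Modules} [G.IsQuasicoherent] {b : ℕ}
    (π : FlatMod.freeMod X b ⟶ F) [Epi π] (φ : F ⟶ G) (h : φ ≫ ηη f G = 0) :
    ∃ N : ℕ, smulEnd F (f ^ N) ≫ φ = 0 := by
  let g : Fin b → Γ(F, ⊤) := sectionsOfHom π
  have hy : ∀ k, ∃ n : ℕ, (f ^ n : Γ(X, ⊤)) • φ.app ⊤ (g k) = 0 := by
    intro k
    have h1 : (φ ≫ ηη f G).app ⊤ (g k) = 0 := by
      rw [h]
      rfl
    rw [comp_app_apply'] at h1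
    have h2 : G.presheaf.map (homOfLE ((X.basicOpen f).ι.image_preimage_le ⊤)).op
        (φ.app ⊤ (g k)) = 0 := h1
    refine compact_inj G (U := ⊤) isCompact_univ f (φ.app ⊤ (g k)) ?_
    have h3 := congr(G.presheaf.map
      (homOfLE (image_preimage_top f).ge).op $h2)
    rw [res_res, map_zero] at h3
    exact h3
  choose n hn using hy
  refine ⟨Finset.univ.sup n, ?_⟩
  rw [← cancel_epi π, comp_zero]
  apply hom_ext_sections
  rw [sectionsOfHom_zero, sectionsOfHom_comp]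
  funext k
  have hk : n k ≤ Finset.univ.sup n := Finset.le_sup (Finset.mem_univ k)
  change (smulEnd F (f ^ Finset.univ.sup n) ≫ φ).app ⊤ (g k) = 0
  rw [smulEnd_naturality, comp_app_apply', smulEnd_app]
  have hres : X.presheaf.map (homOfLE (le_top : (⊤ : X.Opens) ≤ ⊤)).op
      (f ^ Finset.univ.sup n) = f ^ Finset.univ.sup n := by
    have : (homOfLE (le_top : (⊤ : X.Opens) ≤ ⊤)).op = 𝟙 _ := rfl
    rw [this, X.presheaf.map_id]
    rfl
  rw [hres, ← Nat.sub_add_cancel hk, pow_add, mul_smul, hn k, smul_zero]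

omit [CompactSpace X] in
lemma res_top_self (r : Γ(X, ⊤)) :
    X.presheaf.map (homOfLE (le_top : (⊤ : X.Opens) ≤ ⊤)).op r = r := by
  have : (homOfLE (le_top : (⊤ : X.Opens) ≤ ⊤)).op = 𝟙 _ := rfl
  rw [this, X.presheaf.map_id]
  rfl

variable [QuasiSeparatedSpace X]

/-- extension of sections over `D(f)` with a uniform exponent. -/
lemma exists_uniform_extension (G : X.Modules) [G.IsQuasicoherent] {b : ℕ}
    (z : Fin b → Γ(TT f G, ⊤)) :
    ∃ (n : ℕ) (v : Fin b → Γ(G, ⊤)), ∀ k, (ηη f G).app ⊤ (v k) = (f ^ n) • z k := by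
  have hz : ∀ k, ∃ (n : ℕ) (v : Γ(G, ⊤)), (ηη f G).app ⊤ v = (f ^ n) • z k := by
    intro k
    let z' : Γ(G, X.basicOpen f) := G.presheaf.map (homOfLE (image_preimage_top f).ge).op
      (show Γ(G, (X.basicOpen f).ι ''ᵁ ((X.basicOpen f).ι ⁻¹ᵁ ⊤)) from z k)
    obtain ⟨n, v, hv⟩ := compact_qs_surj G (U := ⊤) isCompact_univ isQuasiSeparated_univ f z'
    refine ⟨n, v, ?_⟩
    rw [TT_smul]
    apply res_injective_of_le_of_le G (image_preimage_top f).ge (image_preimage_top f).le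
    change G.presheaf.map _ (G.presheaf.map (homOfLE ((X.basicOpen f).ι.image_preimage_le ⊤)).op v) =
      G.presheaf.map _ (_ • (show Γ(G, (X.basicOpen f).ι ''ᵁ ((X.basicOpen f).ι ⁻¹ᵁ ⊤)) from z k))
    rw [res_res, hv, smul_res, map_pow, map_pow]
    congr 2
    rw [← X.presheaf.map_comp_apply]
    rfl
  choose n v hv using hz
  refine ⟨Finset.univ.sup n, fun k => (f ^ (Finset.univ.sup n - n k)) • v k, fun k => ?_⟩
  have hk : n k ≤ Finset.univ.sup n := Finset.le_sup (Finset.mem_univ k)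
  have h1 : (ηη f G).app ⊤ ((f ^ (Finset.univ.sup n - n k)) • v k) =
      (f ^ (Finset.univ.sup n - n k)) • (ηη f G).app ⊤ (v k) :=
    Scheme.Modules.Hom.app_smul (ηη f G) _ _
  rw [h1, hv k, smul_smul, ← pow_add, Nat.sub_add_cancel hk]

/-- **surjectivity up to a power**: a morphism `F ⟶ j_* j^* G` from a globally finitely presented
module extends to `F ⟶ G` after multiplication by a power of `f`. -/
theorem exists_extension {F G : X.Modules} [G.IsQuasicoherent] {a b : ℕ}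
    (S : ShortComplex X.Modules) (hS : S.Exact) [Epi S.g]
    (e₁ : S.X₁ ≅ FlatMod.freeMod X a) (e₂ : S.X₂ ≅ FlatMod.freeMod X b) (e₃ : S.X₃ ≅ F)
    (ψ : F ⟶ TT f G) :
    ∃ (N : ℕ) (α : F ⟶ G), α ≫ ηη f G = smulEnd F (f ^ N) ≫ ψ := by
  let π : FlatMod.freeMod X b ⟶ F := e₂.inv ≫ S.g ≫ e₃.hom
  haveI : Epi π := by dsimp only [π]; infer_instance
  let g : Fin b → Γ(F, ⊤) := sectionsOfHom π
  obtain ⟨n, v, hv⟩ := exists_uniform_extension f G (fun k => ψ.app ⊤ (g k))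
  let α' : FlatMod.freeMod X b ⟶ G := homOfSections G v
  have h1 : α' ≫ ηη f G = π ≫ smulEnd F (f ^ n) ≫ ψ := by
    apply hom_ext_sections
    rw [sectionsOfHom_comp, sectionsOfHom_homOfSections, sectionsOfHom_comp]
    funext k
    rw [hv k]
    change _ = (smulEnd F (f ^ n) ≫ ψ).app ⊤ (g k)
    rw [comp_app_apply', smulEnd_app, res_top_self]
    exact (Scheme.Modules.Hom.app_smul ψ _ _).symm
  -- the relations are killed by a power of `f`
  let M : FlatMod.freeMod X a ⟶ FlatMod.freeMod X b := e₁.inv ≫ S.f ≫ e₂.hom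
  have hMπ : M ≫ π = 0 := by
    dsimp only [M, π]
    simp only [Category.assoc, Iso.hom_inv_id_assoc]
    rw [S.zero_assoc, zero_comp, comp_zero]
  have h2 : (M ≫ α') ≫ ηη f G = 0 := by
    rw [Category.assoc, h1, reassoc_of% hMπ, zero_comp]
  obtain ⟨N', hN'⟩ := exists_pow_smulEnd_comp_eq_zero f (𝟙 (FlatMod.freeMod X a)) (M ≫ α') h2
  have h3 : S.f ≫ (e₂.hom ≫ smulEnd _ (f ^ N') ≫ α') = 0 := by
    have : e₁.inv ≫ S.f ≫ (e₂.hom ≫ smulEnd _ (f ^ N') ≫ α') = 0 := by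
      rw [← smulEnd_naturality_assoc, ← smulEnd_naturality_assoc, ← smulEnd_naturality_assoc]
      rw [← hN']
      simp only [M, Category.assoc]
    rw [← cancel_epi e₁.inv, this, comp_zero]
  let α₀ : S.X₃ ⟶ G := hS.desc _ h3
  have hα₀ : S.g ≫ α₀ = e₂.hom ≫ smulEnd _ (f ^ N') ≫ α' := hS.g_desc _ h3
  refine ⟨N' + n, e₃.inv ≫ α₀, ?_⟩
  rw [← cancel_epi π]
  have h4 : π ≫ (e₃.inv ≫ α₀) = smulEnd _ (f ^ N') ≫ α' := by
    dsimp only [π]
    simp only [Category.assoc, Iso.hom_inv_id_assoc]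
    rw [hα₀, Iso.inv_hom_id_assoc]
  have h5 : π ≫ (e₃.inv ≫ α₀) ≫ ηη f G = (π ≫ e₃.inv ≫ α₀) ≫ ηη f G := by
    simp only [Category.assoc]
  rw [h5, h4, Category.assoc, h1, smulEnd_naturality_assoc, smulEnd_pow_add, Category.assoc]
  simp only [π, Category.assoc]

end Groth.Agent.LD.Ann
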