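import Groth.Agent.Lib.Lead.Ann.CohAnn
import Groth.Agent.Lib.Lead.Ann.GlobPres
import Groth.Prelude.Def_Wider

/-! # Annihilators of the cohomology of finite locally free modules on `Spec A ∖ V(I)`. -/

universe u
open CategoryTheory Limits Opposite TopologicalSpace AlgebraicGeometry

namespace Groth.Agent.LD.Ann
open Groth.Agent.LD.QC

variable {A : Type u} [CommRing A] (U : (Spec (CommRingCat.of A)).Opens)

/-- the basic open of `Spec A` attached to `c : A`, as an open of the scheme. -/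
noncomputable abbrev DD (c : A) : (Spec (CommRingCat.of A)).Opens :=
  (Spec (CommRingCat.of A)).basicOpen ((Scheme.ΓSpecIso (CommRingCat.of A)).inv c)

lemma basicOpen_gl (c : A) :
    (U : Scheme.{u}).basicOpen (gl (A := A) (U : Scheme.{u}) c) = U.ι ⁻¹ᵁ (DD c) :=
  (Scheme.preimage_basicOpen_top U.ι _).symm

lemma mem_DD (c : A) (z : Spec (CommRingCat.of A)) :
    z ∈ DD c ↔ c ∉ (show PrimeSpectrum A from z).asIdeal := by
  change z ∈ (Spec (CommRingCat.of A)).basicOpen _ ↔ _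
  rw [basicOpen_eq_of_affine]
  rfl

lemma isAffineOpen_basicOpen_gl (c : A) (hc : DD c ≤ U) :
    IsAffineOpen ((U : Scheme.{u}).basicOpen (gl (A := A) (U : Scheme.{u}) c)) := by
  rw [basicOpen_gl]
  have h1 : IsAffineOpen (DD c) := (isAffineOpen_top _).basicOpen _
  exact h1.preimage_of_isOpenImmersion U.ι (by rw [Scheme.Opens.opensRange_ι]; exact hc)

lemma exists_basicOpen_gl (x : (U : Scheme.{u})) (V : (U : Scheme.{u}).Opens) (hx : x ∈ V) :
    ∃ c : A, x ∈ (U : Scheme.{u}).basicOpen (gl (A := A) (U : Scheme.{u}) c) ∧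
      (U : Scheme.{u}).basicOpen (gl (A := A) (U : Scheme.{u}) c) ≤ V ∧
      IsAffineOpen ((U : Scheme.{u}).basicOpen (gl (A := A) (U : Scheme.{u}) c)) := by
  obtain ⟨_, ⟨_, ⟨r, rfl⟩, rfl⟩, hxc, hcV⟩ := (isBasis_basicOpen (Spec (CommRingCat.of A))).exists_subset_of_mem_open
    (Set.mem_image_of_mem _ hx) (U.ι ''ᵁ V).2
  have hr : (Scheme.ΓSpecIso (CommRingCat.of A)).inv ((Scheme.ΓSpecIso (CommRingCat.of A)).hom r) = r :=
    Iso.hom_inv_id_apply _ r
  have hDD : DD ((Scheme.ΓSpecIso (CommRingCat.of A)).hom r) =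
      (Spec (CommRingCat.of A)).basicOpen r := by
    rw [DD, hr]
  have hcU : DD ((Scheme.ΓSpecIso (CommRingCat.of A)).hom r) ≤ U := by
    rw [hDD]
    intro z hz
    obtain ⟨y, -, rfl⟩ := hcV hz
    exact y.2
  refine ⟨(Scheme.ΓSpecIso (CommRingCat.of A)).hom r, ?_, ?_, isAffineOpen_basicOpen_gl U _ hcU⟩
  · rw [basicOpen_gl, hDD]
    exact hxc
  · rw [basicOpen_gl, hDD]
    intro y hy
    obtain ⟨y', hy', hyy⟩ := hcV hy
    have : y' = y := U.ι.isOpenEmbedding.injective hyy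
    rwa [← this]

/-- **Annihilation of cohomology of finite locally free modules on a punctured spectrum.** -/
theorem punctured_ann (J I : Ideal A) (hJI : J ≤ I) (hI : I.FG) (p n : ℕ)
    (hO : ∀ a ∈ J ^ n, ∀ x : Coh.HH (↑(LocCoh.puncturedOpen A I))
      (Coh.structureModule (↑(LocCoh.puncturedOpen A I))) p, a • x = 0)
    (F : (↑(LocCoh.puncturedOpen A I) : Scheme.{u}).Modules) (hF : FlatMod.IsFinLocFree F) :
    ∃ m : ℕ, ∀ a ∈ J ^ m, ∀ x : Coh.HH (↑(LocCoh.puncturedOpen A I)) F p, a • x = 0 := by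
  classical
  have hUc : IsCompact ((LocCoh.puncturedOpen A I) : Set (Spec (CommRingCat.of A))) :=
    ((PrimeSpectrum.isCompact_isOpen_iff_ideal (s := (LocCoh.puncturedOpen A I).1)).2
      ⟨I, hI, rfl⟩).1
  haveI : CompactSpace (↑(LocCoh.puncturedOpen A I) : Scheme.{u}) :=
    isCompact_iff_compactSpace.mp hUc
  haveI : QuasiSeparatedSpace (↑(LocCoh.puncturedOpen A I) : Scheme.{u}) :=
    quasiSeparatedSpace_of_quasiSeparated (LocCoh.puncturedOpen A I).ι
  haveI hqc : F.IsQuasicoherent := qc_of_isFinLocFree F hF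
  have hfp := isFinitePresentation_of_isFinLocFree F hF
  choose V r hxV e using hF
  choose c hxc hcV hcaff using fun x => exists_basicOpen_gl (LocCoh.puncturedOpen A I) x (V x) (hxV x)
  obtain ⟨T, hT⟩ := isCompact_univ.elim_finite_subcover
    (fun x => (((↑(LocCoh.puncturedOpen A I) : Scheme.{u}).basicOpen
      (gl (A := A) (↑(LocCoh.puncturedOpen A I) : Scheme.{u}) (c x)) :
        (↑(LocCoh.puncturedOpen A I) : Scheme.{u}).Opens) :
          Set (↑(LocCoh.puncturedOpen A I) : Scheme.{u})))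
    (fun x => (Opens.isOpen _)) (fun y _ => Set.mem_iUnion.2 ⟨y, hxc y⟩)
  have hcov : ∀ y : (↑(LocCoh.puncturedOpen A I) : Scheme.{u}), ∃ i : T,
      y ∈ (↑(LocCoh.puncturedOpen A I) : Scheme.{u}).basicOpen
        (gl (A := A) (↑(LocCoh.puncturedOpen A I) : Scheme.{u}) (c i.1)) := by
    intro y
    obtain ⟨x, hx, hy⟩ := Set.mem_iUnion₂.1 (hT (Set.mem_univ y))
    exact ⟨⟨x, hx⟩, hy⟩
  obtain ⟨a, b, q, pp, w, hpp, hS⟩ := exists_global_presentation
    (fun i : T => gl (A := A) (↑(LocCoh.puncturedOpen A I) : Scheme.{u}) (c i.1))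
    (fun i => hcaff i.1) hcov F hfp
  haveI := hpp
  have he : ∀ i : T, Nonempty (F.restrict ((↑(LocCoh.puncturedOpen A I) : Scheme.{u}).basicOpen
        (gl (A := A) (↑(LocCoh.puncturedOpen A I) : Scheme.{u}) (c i.1))).ι ≅
      (FlatMod.freeMod (↑(LocCoh.puncturedOpen A I) : Scheme.{u}) (r i.1)).restrict
        ((↑(LocCoh.puncturedOpen A I) : Scheme.{u}).basicOpen
          (gl (A := A) (↑(LocCoh.puncturedOpen A I) : Scheme.{u}) (c i.1))).ι) := by
    intro i
    obtain ⟨e0⟩ := e i.1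
    obtain ⟨e1⟩ := freeMod_of_range_subset F (V i.1).ι
      ((↑(LocCoh.puncturedOpen A I) : Scheme.{u}).basicOpen
        (gl (A := A) (↑(LocCoh.puncturedOpen A I) : Scheme.{u}) (c i.1))).ι
      (by rw [Scheme.Opens.range_ι, Scheme.Opens.range_ι]; exact hcV i.1) (r i.1) e0
    exact ⟨e1 ≪≫ (restrictFreeModIso _ (r i.1)).symm⟩
  choose K hK using fun i : T => exists_pow_ann q pp w hS (c i.1) (he i).some p
  let 𝔞 : Ideal A := Ideal.span (Set.range fun i : T => c i.1 ^ K i)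
  have hrad : I ≤ 𝔞.radical := by
    rw [Ideal.radical_eq_sInf]
    refine le_sInf ?_
    rintro P ⟨hP, hPprime⟩
    by_contra hIP
    let Pt : PrimeSpectrum A := ⟨P, hPprime⟩
    have hPU : Pt ∈ LocCoh.puncturedOpen A I := fun h => hIP h
    obtain ⟨i, hi⟩ := hcov ⟨Pt, hPU⟩
    rw [basicOpen_gl] at hi
    have hi' := (mem_DD (c i.1) Pt).1 hi
    have h3 : c i.1 ^ K i ∈ P := hP (Ideal.subset_span ⟨i, rfl⟩)
    exact hi' (hPprime.mem_of_pow_mem _ h3)
  obtain ⟨M, hM⟩ := Ideal.exists_pow_le_of_le_radical_of_fg hrad hI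
  have hann : J ^ (n + M) ≤ Module.annihilator A (Coh.HH (↑(LocCoh.puncturedOpen A I)) F p) := by
    rw [pow_add]
    refine (Ideal.mul_mono_right ((Ideal.pow_right_mono hJI M).trans hM)).trans ?_
    rw [Ideal.mul_le]
    intro s hs t ht
    refine Submodule.span_induction
      (p := fun t _ => s * t ∈ Module.annihilator A (Coh.HH (↑(LocCoh.puncturedOpen A I)) F p))
      ?_ ?_ ?_ ?_ ht
    · rintro _ ⟨i, rfl⟩
      rw [Module.mem_annihilator]
      exact hK i s (hO s hs)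
    · rw [mul_zero]
      exact zero_mem _
    · intro t1 t2 _ _ h1 h2
      rw [mul_add]
      exact add_mem h1 h2
    · intro u t _ h
      rw [smul_eq_mul, mul_left_comm]
      exact Ideal.mul_mem_left _ _ h
  exact ⟨n + M, fun a ha x => Module.mem_annihilator.1 (hann ha) x⟩

end Groth.Agent.LD.Ann
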