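import Groth.Agent.Lib.Lead.Ann.HomLoc

/-! # A module free over `D(f)` is a retract of a free module up to a power of `f`. -/

universe u
open CategoryTheory Limits Opposite TopologicalSpace AlgebraicGeometry

namespace Groth.Agent.LD.Ann
open Groth.Agent.LD.QC

variable {X : Scheme.{u}} (f : Γ(X, ⊤)) [CompactSpace X] [QuasiSeparatedSpace X]

/-- extension up to a power of `f` of a morphism from a free module to `j_* j^* G`. -/
theorem exists_extension_free {G : X.Modules} [G.IsQuasicoherent] {b : ℕ}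
    (ψ : FlatMod.freeMod X b ⟶ TT f G) :
    ∃ (N : ℕ) (α : FlatMod.freeMod X b ⟶ G),
      α ≫ ηη f G = smulEnd (FlatMod.freeMod X b) (f ^ N) ≫ ψ := by
  obtain ⟨n, v, hv⟩ := exists_uniform_extension f G (sectionsOfHom ψ)
  refine ⟨n, homOfSections G v, ?_⟩
  apply hom_ext_sections
  rw [smulEnd_naturality, sectionsOfHom_comp, sectionsOfHom_homOfSections, sectionsOfHom_comp]
  funext k
  rw [hv k, smulEnd_app, res_top_self]

/-- **splitting up to a power**: a globally finitely presented module which is free of rank `r` over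
`D(f)` is, up to a power of `f`, a retract of the free module of rank `r`. -/
theorem exists_split {F : X.Modules} [F.IsQuasicoherent] {a b r : ℕ}
    (q : FlatMod.freeMod X a ⟶ FlatMod.freeMod X b) (p : FlatMod.freeMod X b ⟶ F) (w : q ≫ p = 0)
    [Epi p] (hS : (ShortComplex.mk q p w).Exact)
    (e : F.restrict (X.basicOpen f).ι ≅ (FlatMod.freeMod X r).restrict (X.basicOpen f).ι) :
    ∃ (K : ℕ) (α : F ⟶ FlatMod.freeMod X r) (β : FlatMod.freeMod X r ⟶ F),
      α ≫ β = smulEnd F (f ^ K) := by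
  haveI : (FlatMod.freeMod X r).IsQuasicoherent :=
    inferInstanceAs (QC.freeMod X r).IsQuasicoherent
  let P := Scheme.Modules.pushforward (X.basicOpen f).ι
  let ψ : F ⟶ TT f (FlatMod.freeMod X r) := ηη f F ≫ P.map e.hom
  let χ : FlatMod.freeMod X r ⟶ TT f F := ηη f (FlatMod.freeMod X r) ≫ P.map e.inv
  haveI : Epi (ShortComplex.mk q p w).g := inferInstanceAs (Epi p)
  obtain ⟨N, α, hα⟩ := exists_extension f (ShortComplex.mk q p w) hS (Iso.refl _) (Iso.refl _)
    (Iso.refl _) ψ
  obtain ⟨M, β, hβ⟩ := exists_extension_free f χ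
  have h1 : (α ≫ β) ≫ ηη f F = smulEnd F (f ^ (M + N)) ≫ ηη f F := by
    rw [Category.assoc, hβ, ← smulEnd_naturality_assoc]
    dsimp only [χ]
    rw [reassoc_of% hα]
    dsimp only [ψ]
    rw [Category.assoc, ← P.map_comp, e.hom_inv_id, P.map_id, Category.comp_id, smulEnd_pow_add,
      Category.assoc]
  have h2 : (α ≫ β - smulEnd F (f ^ (M + N))) ≫ ηη f F = 0 := by
    rw [Preadditive.sub_comp, h1, sub_self]
  obtain ⟨L, hL⟩ := exists_pow_smulEnd_comp_eq_zero f p (α ≫ β - smulEnd F (f ^ (M + N))) h2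
  refine ⟨L + (M + N), smulEnd F (f ^ L) ≫ α, β, ?_⟩
  rw [Preadditive.comp_sub, sub_eq_zero] at hL
  rw [Category.assoc, hL, ← smulEnd_pow_add]

end Groth.Agent.LD.Ann
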